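import Mathlib

/-!
Eigenvalues of a similitude of a positive definite integral form.
-/

set_option autoImplicit false
set_option linter.style.haveILetI false

open Matrix Polynomial
open scoped BigOperators

namespace Groth.Agent.LinAlg.FormScale

variable {n : ℕ}

/-- The quadratic function of a matrix. -/
noncomputable def Qr (G : Matrix (Fin n) (Fin n) ℝ) (x : Fin n → ℝ) : ℝ := ∑ i, ∑ j, G i j * (x i * x j)

theorem continuous_Qr (G : Matrix (Fin n) (Fin n) ℝ) : Continuous (Qr G) := by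
  unfold Qr
  fun_prop

theorem Qr_smul (G : Matrix (Fin n) (Fin n) ℝ) (c : ℝ) (x : Fin n → ℝ) : Qr G (c • x) = c ^ 2 * Qr G x := by
  simp only [Qr, Pi.smul_apply, smul_eq_mul, Finset.mul_sum]
  exact Finset.sum_congr rfl fun i _ => Finset.sum_congr rfl fun j _ => by ring

theorem exists_int_multiple (v : Fin n → ℚ) :
    ∃ (N : ℕ) (z : Fin n → ℤ), 0 < N ∧ ∀ i, (N : ℝ) * (v i : ℝ) = (z i : ℝ) := by
  refine ⟨∏ i, (v i).den, fun i => (v i).num * ∏ j ∈ Finset.univ.erase i, ((v j).den : ℤ),
    Finset.prod_pos fun i _ => (v i).den_pos, fun i => ?_⟩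
  have h : ((v i).den : ℝ) * (v i : ℝ) = ((v i).num : ℝ) := by
    rw [← Rat.cast_natCast, ← Rat.cast_mul, _root_.mul_comm, Rat.mul_den_eq_num, Rat.cast_intCast]
  rw [← Finset.mul_prod_erase _ (fun j => (v j).den) (Finset.mem_univ i)]
  push_cast
  rw [← h]
  ring

/-- A function homogeneous of degree two, continuous and nonnegative on integer vectors, is nonnegative. -/
theorem nonneg_of_int {F : (Fin n → ℝ) → ℝ} (hc : Continuous F)
    (hh : ∀ (c : ℝ) x, F (c • x) = c ^ 2 * F x) (hz : ∀ z : Fin n → ℤ, 0 ≤ F fun i => (z i : ℝ))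
    (x : Fin n → ℝ) : 0 ≤ F x := by
  refine (DenseRange.piMap fun _ : Fin n => Rat.denseRange_cast (𝕜 := ℝ)).induction_on x
    (isClosed_le continuous_const hc) fun v => ?_
  obtain ⟨N, z, hN, hNz⟩ := exists_int_multiple v
  have h := hz z
  rw [show (fun i => (z i : ℝ)) = (N : ℝ) • (fun i => (v i : ℝ)) from funext fun i => (hNz i).symm, hh] at h
  exact (mul_nonneg_iff_of_pos_left (by positivity)).1 h

/-- Positive definiteness passes to real vectors. -/
theorem pos_of_int (G : Matrix (Fin n) (Fin n) ℤ) (hs : ∀ i j, G i j = G j i)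
    (hp : ∀ z : Fin n → ℤ, z ≠ 0 → 0 < ∑ i, ∑ j, G i j * (z i * z j)) (x : Fin n → ℝ) (hx : x ≠ 0) :
    0 < Qr (G.map Int.cast) x := by
  set GR : Matrix (Fin n) (Fin n) ℝ := G.map Int.cast with hGR
  have hnn : ∀ y, 0 ≤ Qr GR y := nonneg_of_int (continuous_Qr _) (Qr_smul _) fun z => by
    rcases eq_or_ne z 0 with rfl | hz
    · simp [Qr]
    · have h := (hp z hz).le
      have e : Qr GR (fun i => (z i : ℝ)) = ((∑ i, ∑ j, G i j * (z i * z j) : ℤ) : ℝ) := by
        simp [Qr, hGR]
      rw [e]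
      exact_mod_cast h
  rcases (hnn x).lt_or_eq with h | h
  · exact h
  exfalso
  set v := GR *ᵥ x with hv
  have hexp : ∀ t : ℝ, Qr GR (x + t • v) = Qr GR x + 2 * t * (∑ i, v i * v i) + t ^ 2 * Qr GR v := by
    intro t
    have e1 : ∑ i, ∑ j, GR i j * (v i * x j) = ∑ i, v i * v i := by
      refine Finset.sum_congr rfl fun i _ => ?_
      conv_rhs => enter [2]; rw [hv, Matrix.mulVec, dotProduct]
      rw [Finset.mul_sum]
      exact Finset.sum_congr rfl fun j _ => by ring
    have e2 : ∑ i, ∑ j, GR i j * (x i * v j) = ∑ i, ∑ j, GR i j * (v i * x j) := by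
      rw [Finset.sum_comm]
      exact Finset.sum_congr rfl fun i _ => Finset.sum_congr rfl fun j _ => by
        rw [show GR j i = GR i j by simp [hGR, hs]]; ring
    have e : Qr GR (x + t • v) = Qr GR x + t * (∑ i, ∑ j, GR i j * (x i * v j)) +
        t * (∑ i, ∑ j, GR i j * (v i * x j)) + t ^ 2 * Qr GR v := by
      simp only [Qr, Pi.add_apply, Pi.smul_apply, smul_eq_mul, Finset.mul_sum, ← Finset.sum_add_distrib]
      exact Finset.sum_congr rfl fun i _ => Finset.sum_congr rfl fun j _ => by ring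
    rw [e, e2, e1]
    ring
  have hv0 : v = 0 := by
    by_contra hne
    have hS : 0 < ∑ i, v i * v i := by
      obtain ⟨i, hi⟩ := Function.ne_iff.1 hne
      exact Finset.sum_pos' (fun j _ => mul_self_nonneg _) ⟨i, Finset.mem_univ i, mul_self_pos.2 hi⟩
    set S := ∑ i, v i * v i
    set c := Qr GR v with hc
    have hc0 : 0 ≤ c := hnn v
    have h2 := hnn (x + (-S / (c + 1)) • v)
    rw [hexp, ← h] at h2
    have h3 : 0 + 2 * (-S / (c + 1)) * S + (-S / (c + 1)) ^ 2 * c = -(S ^ 2 * (c + 2)) / (c + 1) ^ 2 := by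
      field_simp
      ring
    rw [h3] at h2
    have h4 : -(S ^ 2 * (c + 2)) / (c + 1) ^ 2 < 0 := div_neg_of_neg_of_pos (by nlinarith) (by positivity)
    linarith
  have hdet : G.det = 0 := by
    have h1 : GR.det = 0 := Matrix.exists_mulVec_eq_zero_iff.1 ⟨x, hx, hv0⟩
    rw [hGR] at h1
    rw [show G.map Int.cast = (Int.castRingHom ℝ).mapMatrix G from rfl, ← RingHom.map_det] at h1
    simpa using h1
  obtain ⟨z, hz, hGz⟩ := Matrix.exists_mulVec_eq_zero_iff.2 hdet
  have := hp z hz
  rw [show ∑ i, ∑ j, G i j * (z i * z j) = ∑ i, z i * (G *ᵥ z) i from Finset.sum_congr rfl fun i _ => by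
    rw [Matrix.mulVec, dotProduct, Finset.mul_sum]
    exact Finset.sum_congr rfl fun j _ => by ring] at this
  rw [hGz] at this
  simp at this

/-- Eigenvalues of a similitude have square norm the multiplier. -/
theorem norm_sq_eq {M : Type*} [AddCommGroup M] [Module.Free ℤ M] [Module.Finite ℤ M]
    (β : M →+ M →+ ℤ) (hs : ∀ f g, β f g = β g f) (hp : ∀ f, f ≠ 0 → 0 < β f f)
    (R : M →ₗ[ℤ] M) (q : ℕ) (hR : ∀ f, β (R f) (R f) = q * β f f)
    (ω : ℂ) (hω : Polynomial.aeval ω R.charpoly = 0) : ‖ω‖ = Real.sqrt q := by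
  classical
  let ι' := Module.Free.ChooseBasisIndex ℤ M
  let n := Fintype.card ι'
  let b : Module.Basis (Fin n) ℤ M := (Module.Free.chooseBasis ℤ M).reindex (Fintype.equivFin ι')
  let G : Matrix (Fin n) (Fin n) ℤ := fun i j => β (b i) (b j)
  let A : Matrix (Fin n) (Fin n) ℤ := LinearMap.toMatrix b b R
  have hval : ∀ z : Fin n → ℤ, β (b.equivFun.symm z) (b.equivFun.symm z) = ∑ i, ∑ j, G i j * (z i * z j) := by
    intro z
    rw [Module.Basis.equivFun_symm_apply, map_sum, Finset.sum_comm]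
    refine Finset.sum_congr rfl fun j _ => ?_
    rw [hs, map_sum]
    refine Finset.sum_congr rfl fun i _ => ?_
    rw [map_zsmul β, AddMonoidHom.smul_apply, map_zsmul, smul_eq_mul, smul_eq_mul, hs (b j)]
    ring
  have hpz : ∀ z : Fin n → ℤ, z ≠ 0 → 0 < ∑ i, ∑ j, G i j * (z i * z j) := fun z hz => by
    rw [← hval]
    exact hp _ (b.equivFun.symm.map_ne_zero_iff.2 hz)
  have hA : ∀ z : Fin n → ℤ, b.equivFun.symm (A *ᵥ z) = R (b.equivFun.symm z) := fun z => by
    apply b.equivFun.injective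
    rw [LinearEquiv.apply_symm_apply]
    have := LinearMap.toMatrix_mulVec_repr b b R (b.equivFun.symm z)
    rw [← Module.Basis.equivFun_apply, LinearEquiv.apply_symm_apply] at this
    exact this
  set GR : Matrix (Fin n) (Fin n) ℝ := G.map Int.cast with hGR
  set AR : Matrix (Fin n) (Fin n) ℝ := A.map Int.cast with hAR
  have hsim : ∀ x : Fin n → ℝ, Qr GR (AR *ᵥ x) = q * Qr GR x := by
    intro x
    refine congrFun (DenseRange.equalizer (f := Pi.map fun _ : Fin n => ((↑) : ℚ → ℝ))
      (DenseRange.piMap fun _ : Fin n => Rat.denseRange_cast (𝕜 := ℝ))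
      ((continuous_Qr GR).comp (by fun_prop)) (continuous_const.mul (continuous_Qr GR)) (funext fun v => ?_)) x
    obtain ⟨N, z, hN, hNz⟩ := exists_int_multiple v
    have hzc : (fun i => (z i : ℝ)) = (N : ℝ) • (fun i => (v i : ℝ)) := funext fun i => (hNz i).symm
    have h1 : ∀ y : Fin n → ℤ, Qr GR (fun i => (y i : ℝ)) = ((∑ i, ∑ j, G i j * (y i * y j) : ℤ) : ℝ) := by
      intro y; simp [Qr, hGR]
    have h2 : AR *ᵥ (fun i => (z i : ℝ)) = fun i => ((A *ᵥ z) i : ℝ) := by
      funext i; simp [hAR, Matrix.mulVec, dotProduct]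
    have h := hR (b.equivFun.symm z)
    rw [← hA, hval, hval] at h
    have h3 : Qr GR (AR *ᵥ fun i => (z i : ℝ)) = q * Qr GR (fun i => (z i : ℝ)) := by
      rw [h2, h1, h1, h]; push_cast; ring
    rw [hzc, Matrix.mulVec_smul, Qr_smul, Qr_smul, _root_.mul_left_comm] at h3
    exact mul_left_cancel₀ (by positivity) h3
  have hdet : (Matrix.scalar (Fin n) ω - A.map (Int.cast : ℤ → ℂ)).det = 0 := by
    rw [← Matrix.eval_charpoly, show A.map (Int.cast : ℤ → ℂ) = A.map (Int.castRingHom ℂ) from rfl,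
      Matrix.charpoly_map, Polynomial.eval_map, LinearMap.charpoly_toMatrix]
    rw [← algebraMap_int_eq]
    exact hω
  obtain ⟨v, hv, hAv⟩ := Matrix.exists_mulVec_eq_zero_iff.2 hdet
  rw [Matrix.sub_mulVec, sub_eq_zero] at hAv
  have hAv' : ∀ i, ∑ j, (A i j : ℂ) * v j = ω * v i := fun i => by
    have := congrFun hAv i
    simp [Matrix.mulVec, dotProduct, Matrix.diagonal_apply] at this
    exact this.symm
  set a : Fin n → ℝ := fun i => (v i).re
  set c : Fin n → ℝ := fun i => (v i).im
  have ha : AR *ᵥ a = fun i => ω.re * a i - ω.im * c i := by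
    funext i
    have := congrArg Complex.re (hAv' i)
    simp only [Complex.re_sum, Complex.mul_re, Complex.intCast_re, Complex.intCast_im, zero_mul, sub_zero] at this
    simp only [Matrix.mulVec, dotProduct, hAR, Matrix.map_apply, a, c]
    exact this
  have hc : AR *ᵥ c = fun i => ω.im * a i + ω.re * c i := by
    funext i
    have := congrArg Complex.im (hAv' i)
    simp only [Complex.im_sum, Complex.mul_im, Complex.intCast_re, Complex.intCast_im, zero_mul, add_zero] at this
    simp only [Matrix.mulVec, dotProduct, hAR, Matrix.map_apply, a, c]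
    rw [this]; ring
  have hkey : (ω.re ^ 2 + ω.im ^ 2) * (Qr GR a + Qr GR c) = q * (Qr GR a + Qr GR c) := by
    rw [mul_add (q : ℝ), ← hsim, ← hsim, ha, hc]
    simp only [Qr, Finset.mul_sum, ← Finset.sum_add_distrib]
    exact Finset.sum_congr rfl fun i _ => Finset.sum_congr rfl fun j _ => by ring
  have hnn : ∀ x, 0 ≤ Qr GR x := fun x => by
    rcases eq_or_ne x 0 with rfl | hx
    · simp [Qr]
    · exact (pos_of_int G (fun i j => hs _ _) hpz x hx).le
  have hpos : 0 < Qr GR a + Qr GR c := by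
    rcases eq_or_ne a 0 with ha0 | ha0
    · have hc0 : c ≠ 0 := fun hc0 => hv (funext fun i => Complex.ext (congrFun ha0 i) (congrFun hc0 i))
      have h1 := pos_of_int G (fun i j => hs _ _) hpz c hc0
      have h2 := hnn a
      linarith
    · have h1 := pos_of_int G (fun i j => hs _ _) hpz a ha0
      have h2 := hnn c
      linarith
  rw [Complex.norm_def, Complex.normSq_apply, ← sq, ← sq, mul_right_cancel₀ hpos.ne' hkey]

end Groth.Agent.LinAlg.FormScale
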