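import Mathlib

/-!
Integer polynomials all of whose roots have absolute value `√q`: parity of the real roots and
Serre's bound for the trace.
-/

set_option autoImplicit false

noncomputable section

namespace Groth.Agent.LinAlg.WeilNumbers

open Polynomial ComplexConjugate

variable (P : ℤ[X])

/-- The complex roots. -/
abbrev rts : Multiset ℂ := (P.map (Int.castRingHom ℂ)).roots

theorem map_conj_rts : (rts P).map (starRingEnd ℂ) = rts P := by
  unfold rts
  rw [← (IsAlgClosed.splits _).roots_map (starRingEnd ℂ), Polynomial.map_map,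
    RingHom.ext_int ((starRingEnd ℂ).comp (Int.castRingHom ℂ)) (Int.castRingHom ℂ)]

variable {P}

theorem card_rts (hP : P.Monic) : (rts P).card = P.natDegree := by
  rw [rts, ← (IsAlgClosed.splits _).natDegree_eq_card_roots, hP.natDegree_map]

theorem prod_rts (hP : P.Monic) {g : ℕ} (hd : P.natDegree = 2 * g) : (rts P).prod = (P.eval 0 : ℤ) := by
  have h := (IsAlgClosed.splits (P.map (Int.castRingHom ℂ))).coeff_zero_eq_prod_roots_of_monic (hP.map _)
  rw [hP.natDegree_map, hd, (even_two_mul g).neg_one_pow, one_mul, coeff_map, eq_intCast] at h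
  rw [← coeff_zero_eq_eval_zero]
  exact h.symm

theorem nextCoeff_eq_re (hP : P.Monic) : (P.nextCoeff : ℝ) = -((rts P).map Complex.re).sum := by
  have h := (IsAlgClosed.splits (P.map (Int.castRingHom ℂ))).nextCoeff_eq_neg_sum_roots_of_monic (hP.map _)
  rw [nextCoeff_map (Int.castRingHom ℂ).injective_int, eq_intCast] at h
  have h2 := congrArg Complex.re h
  rw [Complex.intCast_re, Complex.neg_re] at h2
  rw [h2]
  exact congrArg Neg.neg (Complex.reAddGroupHom.map_multiset_sum _)

theorem norm_prod_rts {q : ℝ} (hn : ∀ ω ∈ rts P, ‖ω‖ = q) : ‖(rts P).prod‖ = q ^ (rts P).card := by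
  revert hn
  generalize rts P = S
  intro hn
  induction S using Multiset.induction_on with
  | empty => simp
  | cons a s ih => rw [Multiset.prod_cons, norm_mul, ih fun ω h => hn ω (Multiset.mem_cons_of_mem h),
      hn a (Multiset.mem_cons_self a s), Multiset.card_cons, pow_succ, mul_comm]

/-- The constant term is `q^g` as soon as it is nonnegative. -/
theorem eval_zero_eq {q g : ℕ} (hP : P.Monic) (hd : P.natDegree = 2 * g) (hn : ∀ ω ∈ rts P, ‖ω‖ = Real.sqrt q)
    (h0 : 0 ≤ P.eval 0) : P.eval 0 = (q : ℤ) ^ g := by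
  have h := norm_prod_rts hn
  rw [prod_rts hP hd, card_rts hP, hd, pow_mul, Real.sq_sqrt (Nat.cast_nonneg q), Complex.norm_intCast,
    abs_of_nonneg (Int.cast_nonneg h0)] at h
  exact_mod_cast h

theorem add_conj_of_norm {q : ℕ} {ω : ℂ} (h : ‖ω‖ = Real.sqrt q) : ω * conj ω = (q : ℂ) := by
  rw [Complex.mul_conj, Complex.normSq_eq_norm_sq, h, Real.sq_sqrt (Nat.cast_nonneg q), Complex.ofReal_natCast]

/-- The real roots `±√q` have even multiplicity. -/
theorem even_rootMultiplicity {q g : ℕ} (hq : q ≠ 0) (hP : P.Monic) (hd : P.natDegree = 2 * g)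
    (hn : ∀ ω ∈ rts P, ‖ω‖ = Real.sqrt q) (h0 : 0 ≤ P.eval 0) :
    Even ((P.map (Int.castRingHom ℝ)).rootMultiplicity (Real.sqrt q)) ∧
      Even ((P.map (Int.castRingHom ℝ)).rootMultiplicity (-Real.sqrt q)) := by
  classical
  set s := Real.sqrt q with hs
  have hs0 : 0 < s := Real.sqrt_pos.2 (Nat.cast_pos.2 (Nat.pos_of_ne_zero hq))
  have hm : ∀ x : ℝ, (P.map (Int.castRingHom ℝ)).rootMultiplicity x = (rts P).count (x : ℂ) := fun x => by
    rw [rts, count_roots, eq_rootMultiplicity_map Complex.ofRealHom.injective x, Polynomial.map_map,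
      RingHom.ext_int (Complex.ofRealHom.comp (Int.castRingHom ℝ)) (Int.castRingHom ℂ)]
    rfl
  have hconj := map_conj_rts P
  set A := (rts P).filter fun z => 0 < z.im
  set B := (rts P).filter fun z => z.im < 0
  have hBA : B = A.map (starRingEnd ℂ) := by
    conv_lhs => rw [show B = ((rts P).map (starRingEnd ℂ)).filter (fun z => z.im < 0) by rw [hconj]]
    rw [Multiset.filter_map]
    refine congrArg _ (Multiset.filter_congr fun z _ => ?_)
    simp
  have hR : (rts P).filter (fun z => z.im = 0) =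
      Multiset.replicate ((rts P).count (s : ℂ)) (s : ℂ) +
        Multiset.replicate ((rts P).count ((-s : ℝ) : ℂ)) ((-s : ℝ) : ℂ) := by
    ext z
    rw [Multiset.count_filter, Multiset.count_add, Multiset.count_replicate, Multiset.count_replicate]
    have hne : (s : ℂ) ≠ ((-s : ℝ) : ℂ) := by
      intro h; have := Complex.ofReal_injective h; linarith
    by_cases hz : z ∈ rts P
    · by_cases him : z.im = 0
      · have hzr : z = (z.re : ℂ) := Complex.ext (by simp) (by simp [him])
        have := hn z hz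
        rw [hzr, Complex.norm_real, Real.norm_eq_abs, abs_eq hs0.le] at this
        rcases this with h | h <;> rw [hzr, h]
        · rw [if_pos (by simp), if_pos rfl, if_neg hne.symm, add_zero]
        · rw [if_pos (by simp), if_neg hne, if_pos rfl, zero_add]
      · rw [if_neg him, if_neg (fun h => him (by rw [← h]; simp)), if_neg (fun h => him (by rw [← h]; simp))]
    · have h1 : (rts P).count z = 0 := Multiset.count_eq_zero.2 hz
      split_ifs with a b c <;> simp_all
  have hsplit : rts P = (rts P).filter (fun z => z.im = 0) + (A + B) := by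
    ext z
    simp only [Multiset.count_add, A, B, Multiset.count_filter]
    rcases lt_trichotomy z.im 0 with h | h | h
    · simp [h, h.ne, h.le, not_lt.2 h.le]
    · simp [h]
    · simp [h, h.ne', not_lt.2 h.le]
  have hAB : (A + B).prod = ((q : ℂ)) ^ A.card := by
    rw [Multiset.prod_add, hBA, show A.prod * (A.map (starRingEnd ℂ)).prod = (A.map fun z => z * conj z).prod by rw [Multiset.prod_map_mul, Multiset.map_id']]
    rw [Multiset.map_congr rfl fun z hz => add_conj_of_norm (hn z (Multiset.mem_of_mem_filter hz)),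
      Multiset.map_const', Multiset.prod_replicate]
  set a := (rts P).count (s : ℂ)
  set b := (rts P).count ((-s : ℝ) : ℂ)
  have hprod : ((q : ℂ)) ^ g = (s : ℂ) ^ a * ((-s : ℝ) : ℂ) ^ b * (q : ℂ) ^ A.card := by
    have h := prod_rts hP hd
    rw [eval_zero_eq hP hd hn h0, hsplit, Multiset.prod_add, hR, Multiset.prod_add, hAB, Multiset.prod_replicate,
      Multiset.prod_replicate, Int.cast_pow, Int.cast_natCast] at h
    exact h.symm
  have hcard : 2 * g = a + b + (A.card + A.card) := by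
    rw [← hd, ← card_rts hP]
    conv_lhs => rw [hsplit, hR]
    simp [hBA, a, b]
  have hb : Even b := by
    by_contra hb
    rw [Nat.not_even_iff_odd] at hb
    have h : (q : ℝ) ^ g = s ^ a * (-s) ^ b * (q : ℝ) ^ A.card := by
      exact_mod_cast hprod
    rw [hb.neg_pow] at h
    have h1 : (0:ℝ) < s ^ a * s ^ b * (q : ℝ) ^ A.card := by positivity
    have h2 : (0:ℝ) < (q : ℝ) ^ g := by positivity
    linarith [h, mul_neg (s ^ a) (s ^ b), neg_mul (s ^ a * s ^ b) ((q : ℝ) ^ A.card)]
  rw [hm, hm]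
  refine ⟨?_, hb⟩
  show Even a
  obtain ⟨c, hc⟩ := hb
  exact ⟨g - c - A.card, by omega⟩

theorem log_prod_pos : ∀ T : Multiset ℝ, (∀ y ∈ T, 0 < y) → 0 < T.prod ∧ Real.log T.prod = (T.map Real.log).sum := by
  intro T
  induction T using Multiset.induction_on with
  | empty => simp
  | cons a s ih =>
    intro h
    obtain ⟨h1, h2⟩ := ih fun y hy => h y (Multiset.mem_cons_of_mem hy)
    have ha := h a (Multiset.mem_cons_self a s)
    refine ⟨by rw [Multiset.prod_cons]; positivity, ?_⟩
    rw [Multiset.prod_cons, Real.log_mul ha.ne' h1.ne', h2, Multiset.map_cons, Multiset.sum_cons]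

theorem sum_ge_card_of_one_le_prod {T : Multiset ℝ} (hp : ∀ y ∈ T, 0 < y) (h1 : 1 ≤ T.prod) :
    (T.card : ℝ) ≤ T.sum ∧ (T.sum = T.card → ∀ y ∈ T, y = 1) := by
  have hlog : 0 ≤ (T.map Real.log).sum := (log_prod_pos T hp).2 ▸ Real.log_nonneg h1
  have hsub : (T.map fun y => y - 1 - Real.log y).sum = T.sum - T.card - (T.map Real.log).sum := by
    rw [Multiset.sum_map_sub, Multiset.sum_map_sub, Multiset.map_id', Multiset.map_const', Multiset.sum_replicate]
    simp
  have hnn : ∀ x ∈ T.map (fun y => y - 1 - Real.log y), 0 ≤ x := by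
    intro x hx
    obtain ⟨y, hy, rfl⟩ := Multiset.mem_map.1 hx
    linarith [Real.log_le_sub_one_of_pos (hp y hy)]
  have h0 := Multiset.sum_nonneg hnn
  refine ⟨by linarith, fun he y hy => ?_⟩
  by_contra hy1
  have hlt := Real.log_lt_sub_one_of_pos (hp y hy) hy1
  have h3 : y - 1 - Real.log y ≤ (T.map fun y => y - 1 - Real.log y).sum :=
    Multiset.single_le_sum hnn _ (Multiset.mem_map_of_mem _ hy)
  linarith

theorem map_mul_prod (S : Multiset ℂ) (f : ℂ → ℂ) : (S.map fun z => z * f z).prod = S.prod * (S.map f).prod := by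
  rw [Multiset.prod_map_mul, Multiset.map_id']

/-- Serre's bound, and its case of equality. -/
theorem serre_bound {q g : ℕ} (hq : q ≠ 0) (hP : P.Monic) (hd : P.natDegree = 2 * g)
    (hn : ∀ ω ∈ rts P, ‖ω‖ = Real.sqrt q) (h0 : 0 ≤ P.eval 0)
    (hint : ∀ F : ℤ[X], ∃ N : ℤ, ((rts P).map fun ω => aeval ω F).prod = N)
    (m : ℤ) (hm : 2 * Real.sqrt q < m + 1) (ε : ℤ) (hε : ε = 1 ∨ ε = -1) :
    -(ε : ℝ) * P.nextCoeff ≤ g * m ∧
      (-(ε : ℝ) * P.nextCoeff = g * m → P = (X ^ 2 - C (ε * m) * X + C (q : ℤ)) ^ g) := by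
  classical
  have hε2 : (ε : ℝ) * ε = 1 := by rcases hε with h | h <;> simp [h]
  let f : ℂ → ℝ := fun ω => (m + 1 : ℝ) - ε * (2 * ω.re)
  have hf : ∀ ω : ℂ, ((f ω : ℝ) : ℂ) = ((m + 1 : ℤ) : ℂ) - (ε : ℂ) * (ω + conj ω) := fun ω => by
    rw [Complex.add_conj]
    push_cast [f]
    ring
  set T := (rts P).map f with hT
  have hTc : (T.card : ℝ) = 2 * g := by rw [hT, Multiset.card_map, card_rts hP, hd]; push_cast; ring
  have hpos : ∀ y ∈ T, 0 < y := by
    intro y hy
    obtain ⟨ω, hω, rfl⟩ := Multiset.mem_map.1 hy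
    have h1 : |ω.re| ≤ Real.sqrt q := hn ω hω ▸ Complex.abs_re_le_norm ω
    have h2 := abs_le.1 h1
    rcases hε with h | h <;> simp only [f, h, Int.cast_one, Int.cast_neg] <;> linarith
  -- the product is a positive rational algebraic integer
  set D := ((rts P).map fun ω => ((m + 1 : ℤ) : ℂ) - (ε : ℂ) * (ω + conj ω)).prod with hD
  have hDT : ((T.prod : ℝ) : ℂ) = D := by
    rw [hD, ← Complex.ofRealHom_eq_coe, map_multiset_prod, hT, Multiset.map_map]
    exact congrArg Multiset.prod (Multiset.map_congr rfl fun ω _ => hf ω)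
  obtain ⟨N, hN⟩ := hint (C (m + 1) * X - C ε * X ^ 2 - C (ε * q))
  have hDN : D * ((q : ℤ) ^ g : ℤ) = N := by
    rw [← hN, ← eval_zero_eq hP hd hn h0, ← prod_rts hP hd, mul_comm, hD, ← map_mul_prod]
    refine congrArg Multiset.prod (Multiset.map_congr rfl fun ω hω => ?_)
    have h := add_conj_of_norm (hn ω hω)
    simp only [map_sub, map_mul, map_add, map_one, aeval_C, aeval_X, map_pow, algebraMap_int_eq, Int.coe_castRingHom,
      map_natCast, Int.cast_mul, Int.cast_natCast, Int.cast_add, Int.cast_one]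
    rw [← h]
    ring
  have hDi : IsIntegral ℤ D := by
    refine IsIntegral.multiset_prod fun x hx => ?_
    obtain ⟨ω, hω, rfl⟩ := Multiset.mem_map.1 hx
    have hωi : IsIntegral ℤ ω := ⟨P, hP, by
      rw [mem_roots (hP.map _).ne_zero, IsRoot.def, eval_map] at hω
      rwa [show (algebraMap ℤ ℂ) = Int.castRingHom ℂ from RingHom.ext_int _ _]⟩
    exact (isIntegral_algebraMap (A := ℂ) (x := m + 1)).sub
      ((isIntegral_algebraMap (A := ℂ) (x := ε)).mul (hωi.add (hωi.map (starRingEnd ℂ).toIntAlgHom)))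
  have hqg : ((q : ℤ) ^ g : ℤ) ≠ 0 := pow_ne_zero _ (Nat.cast_ne_zero.2 hq)
  have hDr : algebraMap ℚ ℂ ((N : ℚ) / ((q : ℤ) ^ g : ℤ)) = D := by
    rw [map_div₀, map_intCast, map_intCast, ← hDN, mul_div_cancel_right₀ _ (Int.cast_ne_zero.2 hqg)]
  obtain ⟨z, hz⟩ := IsIntegrallyClosed.isIntegral_iff.1
    ((isIntegral_algebraMap_iff (algebraMap ℚ ℂ).injective).1 (hDr ▸ hDi))
  have hDz : T.prod = (z : ℝ) := by
    apply Complex.ofReal_injective
    rw [hDT, ← hDr, ← hz, Complex.ofReal_intCast]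
    simp
  have h1 : 1 ≤ T.prod := by
    have := (log_prod_pos T hpos).1
    rw [hDz] at this ⊢
    exact_mod_cast (Int.cast_pos.1 this : 0 < z)
  obtain ⟨hle, heq⟩ := sum_ge_card_of_one_le_prod hpos h1
  have hsum : T.sum = 2 * g * (m + 1) + ε * (2 * (P.nextCoeff : ℝ)) := by
    rw [hT, nextCoeff_eq_re hP, Multiset.sum_map_sub, Multiset.map_const', Multiset.sum_replicate, card_rts hP, hd,
      Multiset.sum_map_mul_left, Multiset.sum_map_mul_left, nsmul_eq_mul]
    push_cast
    ring
  rw [hsum, hTc] at hle heq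
  refine ⟨by nlinarith [hle], fun he => ?_⟩
  have hall := heq (by nlinarith [he])
  set Q : ℤ[X] := X ^ 2 - C (ε * m) * X + C (q : ℤ) with hQ
  have hQm : Q.Monic := by rw [hQ]; monicity!
  have hfac : ∀ ω ∈ rts P, (X - C ω) * (X - C (conj ω)) = Q.map (Int.castRingHom ℂ) := by
    intro ω hω
    have hy := hall _ (Multiset.mem_map_of_mem f hω)
    have hre : ω + conj ω = ((ε * m : ℤ) : ℂ) := by
      rw [Complex.add_conj]
      have : 2 * ω.re = ε * m := by
        simp only [f] at hy
        rcases hε with h | h <;> simp only [h, Int.cast_one, Int.cast_neg] at hy ⊢ <;> linarith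
      rw [this]; push_cast; ring
    have hmul := add_conj_of_norm (hn ω hω)
    rw [hQ]
    simp only [Polynomial.map_add, Polynomial.map_sub, Polynomial.map_mul, Polynomial.map_pow, Polynomial.map_X,
      Polynomial.map_C, Int.coe_castRingHom, Int.cast_natCast]
    rw [show (C (((ε * m : ℤ)) : ℂ)) = C ω + C (conj ω) by rw [← map_add, hre],
      show (C (q : ℂ)) = C ω * C (conj ω) by rw [← map_mul, hmul]]
    ring
  have hsq : (P.map (Int.castRingHom ℂ)) * (P.map (Int.castRingHom ℂ)) =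
      (Q.map (Int.castRingHom ℂ)) ^ g * (Q.map (Int.castRingHom ℂ)) ^ g := by
    have hp := (IsAlgClosed.splits (P.map (Int.castRingHom ℂ))).eq_prod_roots_of_monic (hP.map _)
    have hp2 : P.map (Int.castRingHom ℂ) = ((rts P).map fun ω => X - C (conj ω)).prod := by
      refine hp.trans ?_
      show ((rts P).map fun ω => X - C ω).prod = _
      conv_lhs => rw [← map_conj_rts P, Multiset.map_map]
      rfl
    conv_lhs => rw [show P.map (Int.castRingHom ℂ) * P.map (Int.castRingHom ℂ) =
      ((rts P).map fun ω => X - C ω).prod * ((rts P).map fun ω => X - C (conj ω)).prod by rw [← hp2]; exact congrArg (· * _) hp]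
    rw [← Multiset.prod_map_mul, Multiset.map_congr rfl hfac, Multiset.map_const', Multiset.prod_replicate,
      card_rts hP, hd, ← pow_add, two_mul]
  rcases mul_self_eq_mul_self_iff.1 hsq with h | h
  · exact Polynomial.map_injective (Int.castRingHom ℂ) Int.cast_injective (h.trans (Polynomial.map_pow (Int.castRingHom ℂ) g).symm)
  · have hl := congrArg leadingCoeff h
    rw [leadingCoeff_neg, (hP.map _).leadingCoeff, ((hQm.map _).pow g).leadingCoeff] at hl
    norm_num at hl

theorem nextCoeff_quadratic_pow (a b : ℤ) (g : ℕ) : ((X ^ 2 - C a * X + C b) ^ g : ℤ[X]).nextCoeff = -(g * a) := by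
  have hd : (X ^ 2 - C a * X + C b : ℤ[X]).natDegree = 2 := by compute_degree!
  have hm : (X ^ 2 - C a * X + C b : ℤ[X]).Monic := by monicity!
  rw [hm.nextCoeff_pow, nextCoeff_of_natDegree_pos (by omega), hd]
  rw [nsmul_eq_mul, coeff_add, coeff_sub, coeff_X_pow, coeff_C_mul, coeff_X_one, coeff_C]
  simp

theorem abs_nextCoeff_le {q g : ℕ} (hq : q ≠ 0) (hP : P.Monic) (hd : P.natDegree = 2 * g)
    (hn : ∀ ω ∈ rts P, ‖ω‖ = Real.sqrt q) (h0 : 0 ≤ P.eval 0)
    (hint : ∀ F : ℤ[X], ∃ N : ℤ, ((rts P).map fun ω => aeval ω F).prod = N) :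
    |(P.nextCoeff : ℝ)| ≤ g * (⌊2 * Real.sqrt q⌋ : ℝ) := by
  have hm := Int.lt_floor_add_one (2 * Real.sqrt q)
  have h1 := (serre_bound hq hP hd hn h0 hint _ hm 1 (Or.inl rfl)).1
  have h2 := (serre_bound hq hP hd hn h0 hint _ hm (-1) (Or.inr rfl)).1
  rw [abs_le]
  push_cast at h1 h2
  constructor <;> linarith

theorem abs_nextCoeff_eq_iff {q g : ℕ} (hq : q ≠ 0) (hP : P.Monic) (hd : P.natDegree = 2 * g)
    (hn : ∀ ω ∈ rts P, ‖ω‖ = Real.sqrt q) (h0 : 0 ≤ P.eval 0)
    (hint : ∀ F : ℤ[X], ∃ N : ℤ, ((rts P).map fun ω => aeval ω F).prod = N) :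
    |(P.nextCoeff : ℝ)| = g * (⌊2 * Real.sqrt q⌋ : ℝ) ↔
      (P = (X ^ 2 - C ⌊2 * Real.sqrt q⌋ * X + C (q : ℤ)) ^ g ∨
        P = (X ^ 2 + C ⌊2 * Real.sqrt q⌋ * X + C (q : ℤ)) ^ g) := by
  have hm := Int.lt_floor_add_one (2 * Real.sqrt q)
  set m := ⌊2 * Real.sqrt q⌋
  have hm0 : (0:ℝ) ≤ g * m := mul_nonneg (Nat.cast_nonneg _) (Int.cast_nonneg (Int.floor_nonneg.2 (by positivity)))
  have e : (X ^ 2 + C m * X + C (q : ℤ) : ℤ[X]) = X ^ 2 - C (-1 * m) * X + C (q : ℤ) := by
    rw [neg_one_mul, map_neg]; ring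
  constructor
  · intro h
    rcases (abs_eq hm0).1 h with h' | h'
    · right
      rw [e]
      exact (serre_bound hq hP hd hn h0 hint _ hm (-1) (Or.inr rfl)).2 (by push_cast; linarith)
    · left
      have := (serre_bound hq hP hd hn h0 hint _ hm 1 (Or.inl rfl)).2 (by push_cast; linarith)
      rwa [one_mul] at this
  · rintro (h | h)
    · rw [h, nextCoeff_quadratic_pow]
      push_cast
      rw [abs_neg, abs_of_nonneg hm0]
    · rw [h, e, nextCoeff_quadratic_pow]
      push_cast
      rw [neg_one_mul, mul_neg, neg_neg, abs_of_nonneg hm0]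

end Groth.Agent.LinAlg.WeilNumbers
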