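import Mathlib
import Groth.Agent.WeilLib.ZetaSeries

/-!
Alternating products over the sub-multisets of the roots: the zeta function of an abelian variety.
-/

set_option autoImplicit false

noncomputable section

namespace Groth.Agent.LinAlg.AltProd

open Polynomial

/-- `P_j`. -/
abbrev Pj (S : Multiset ℂ) (j : ℕ) : ℂ[X] :=
  ((S.powersetCard j).map (fun I => (1 : ℂ[X]) - C I.prod * X)).prod

section Powerset

variable {M : Type*} [CommMonoid M]

theorem prod_powerset_eq (S : Multiset ℂ) (f : Multiset ℂ → M) :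
    ∏ j ∈ Finset.range (S.card + 1), ((S.powersetCard j).map f).prod = (S.powerset.map f).prod := by
  rw [← Multiset.bind_powerset_len S, Multiset.map_bind, Multiset.prod_bind]
  rfl

theorem prod_filter_powerset_eq (S : Multiset ℂ) (f : Multiset ℂ → M) (P : ℕ → Prop) [DecidablePred P] :
    ∏ j ∈ (Finset.range (S.card + 1)).filter P, ((S.powersetCard j).map f).prod =
      (S.powerset.map fun I => if P I.card then f I else 1).prod := by
  rw [← prod_powerset_eq, Finset.prod_filter]
  refine Finset.prod_congr rfl fun j _ => ?_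
  by_cases h : P j
  · rw [if_pos h]
    exact congrArg Multiset.prod (Multiset.map_congr rfl fun I hI => by
      rw [(Multiset.mem_powersetCard.1 hI).2, if_pos h])
  · rw [if_neg h]
    refine (Multiset.prod_eq_one fun x hx => ?_).symm
    obtain ⟨I, hI, rfl⟩ := Multiset.mem_map.1 hx
    rw [(Multiset.mem_powersetCard.1 hI).2, if_neg h]

/-- Passing to complements permutes the sub-multisets. -/
theorem map_sub_powerset {α : Type*} [DecidableEq α] (S : Multiset α) : S.powerset.map (S - ·) = S.powerset := by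
  induction S using Multiset.induction_on with
  | empty => simp
  | cons a s ih =>
    rw [Multiset.powerset_cons, Multiset.map_add, Multiset.map_map]
    have h1 : s.powerset.map (fun I => (a ::ₘ s) - I) = s.powerset.map (Multiset.cons a) := by
      conv_rhs => rw [← ih, Multiset.map_map]
      exact Multiset.map_congr rfl fun I hI => Multiset.cons_sub_of_le _ (Multiset.mem_powerset.1 hI)
    have h2 : s.powerset.map ((fun I => (a ::ₘ s) - I) ∘ Multiset.cons a) = s.powerset := by
      conv_rhs => rw [← ih]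
      exact Multiset.map_congr rfl fun I _ => by simp [Multiset.sub_cons]
    rw [h1, h2, add_comm]

end Powerset

/-- The alternating product of `-c·α_I`. -/
def altP (S : Multiset ℂ) (c : ℂ) : ℂ := (S.powerset.map fun I => (c * I.prod) ^ ((-1 : ℤ) ^ I.card)).prod

theorem altP_cons (a : ℂ) (S : Multiset ℂ) (c : ℂ) : altP (a ::ₘ S) c = altP S c * (altP S (c * a))⁻¹ := by
  unfold altP
  rw [Multiset.powerset_cons, Multiset.map_add, Multiset.prod_add, Multiset.map_map, ← Multiset.prod_map_inv]
  refine congrArg₂ (· * ·) rfl (congrArg Multiset.prod (Multiset.map_congr rfl fun I _ => ?_))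
  simp only [Function.comp_apply, Multiset.prod_cons, Multiset.card_cons, pow_succ, mul_neg, mul_one, zpow_neg, mul_assoc]

theorem altP_ne_zero {S : Multiset ℂ} (h : ∀ a ∈ S, a ≠ 0) {c : ℂ} (hc : c ≠ 0) : altP S c ≠ 0 := by
  refine Multiset.prod_ne_zero fun h0 => ?_
  obtain ⟨I, hI, hI0⟩ := Multiset.mem_map.1 h0
  refine zpow_ne_zero _ (mul_ne_zero hc ?_) hI0
  exact Multiset.prod_ne_zero fun h0 => h 0 (Multiset.mem_of_le (Multiset.mem_powerset.1 hI) h0) rfl

theorem altP_const : ∀ {S : Multiset ℂ}, (∀ a ∈ S, a ≠ 0) → S ≠ 0 → ∀ c c' : ℂ, c ≠ 0 → c' ≠ 0 →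
    altP S c = altP S c' ∧ (2 ≤ S.card → altP S c = 1) := by
  intro S
  induction S using Multiset.induction_on with
  | empty => exact fun _ h => absurd rfl h
  | cons a T ih =>
    intro hS _ c c' hc hc'
    have ha := hS a (Multiset.mem_cons_self a T)
    have hT : ∀ b ∈ T, b ≠ 0 := fun b hb => hS b (Multiset.mem_cons_of_mem hb)
    rcases eq_or_ne T 0 with rfl | hne
    · refine ⟨?_, fun h => absurd h (by simp)⟩
      simp only [altP_cons]
      simp only [altP, Multiset.powerset_zero, Multiset.map_singleton, Multiset.prod_singleton,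
        Multiset.card_zero, pow_zero, zpow_one, Multiset.prod_zero, mul_one]
      field_simp
    · have h1 : ∀ d : ℂ, d ≠ 0 → altP (a ::ₘ T) d = 1 := fun d hd => by
        rw [altP_cons, (ih hT hne d (d * a) hd (mul_ne_zero hd ha)).1,
          mul_inv_cancel₀ (altP_ne_zero hT (mul_ne_zero hd ha))]
      exact ⟨by rw [h1 c hc, h1 c' hc'], fun _ => h1 c hc⟩

/-- The functional equation. -/
theorem functional_equation {S : Multiset ℂ} {g : ℕ} (hg : 1 ≤ g) (hc : S.card = 2 * g) {Q : ℂ}
    (hQ : Q ≠ 0) (hprod : S.prod = Q) {t : ℂ} (ht : t ≠ 0) :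
    ∏ j ∈ Finset.range (2 * g + 1), (eval ((Q * t)⁻¹) (Pj S j)) ^ ((-1 : ℤ) ^ (j + 1)) =
      ∏ j ∈ Finset.range (2 * g + 1), (eval t (Pj S j)) ^ ((-1 : ℤ) ^ (j + 1)) := by
  classical
  have hS : ∀ a ∈ S, a ≠ 0 := fun a ha h0 => hQ (hprod ▸ Multiset.prod_eq_zero (h0 ▸ ha))
  have key : ∀ x : ℂ, ∏ j ∈ Finset.range (2 * g + 1), (eval x (Pj S j)) ^ ((-1 : ℤ) ^ (j + 1)) =
      (S.powerset.map fun I => (1 - I.prod * x) ^ ((-1 : ℤ) ^ (I.card + 1))).prod := by
    intro x
    rw [← hc, ← prod_powerset_eq]
    refine Finset.prod_congr rfl fun j _ => ?_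
    rw [Pj, eval_multiset_prod, Multiset.map_map, ← Multiset.prod_map_zpow]
    refine congrArg Multiset.prod (Multiset.map_congr rfl fun I hI => ?_)
    rw [(Multiset.mem_powersetCard.1 hI).2]
    simp
  rw [key, key]
  conv_lhs => rw [← map_sub_powerset S, Multiset.map_map]
  have h2 : ∀ I ∈ S.powerset, ((fun I => (1 - I.prod * (Q * t)⁻¹) ^ ((-1 : ℤ) ^ (I.card + 1))) ∘ fun I => S - I) I =
      (1 - I.prod * t) ^ ((-1 : ℤ) ^ (I.card + 1)) * ((-t) * I.prod) ^ ((-1 : ℤ) ^ I.card) := by
    intro I hI
    have hle := Multiset.mem_powerset.1 hI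
    have hI0 : I.prod ≠ 0 := Multiset.prod_ne_zero fun h0 => hS 0 (Multiset.mem_of_le hle h0) rfl
    have hpI : (S - I).prod * I.prod = Q := by rw [← Multiset.prod_add, Multiset.sub_add_cancel hle, hprod]
    have hsgn : (-1 : ℤ) ^ ((S - I).card + 1) = (-1) ^ (I.card + 1) := by
      have h : (S - I).card + I.card = 2 * g := by rw [← Multiset.card_add, Multiset.sub_add_cancel hle, hc]
      rw [neg_one_pow_eq_pow_mod_two, neg_one_pow_eq_pow_mod_two (n := I.card + 1)]
      congr 1
      omega
    show (1 - (S - I).prod * (Q * t)⁻¹) ^ ((-1 : ℤ) ^ ((S - I).card + 1)) = _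
    have e : 1 - (S - I).prod * (Q * t)⁻¹ = (1 - I.prod * t) * (-t * I.prod)⁻¹ := by
      rw [← hpI]
      have : (S - I).prod ≠ 0 := left_ne_zero_of_mul (hpI ▸ hQ)
      field_simp
      ring
    rw [hsgn, e, mul_zpow]
    refine congrArg _ ?_
    rw [inv_zpow', pow_succ, mul_neg, mul_one, neg_neg]
  rw [Multiset.map_congr rfl h2, Multiset.prod_map_mul]
  have h3 := (altP_const hS (by rintro rfl; simp at hc; omega) (-t) 1 (neg_ne_zero.2 ht) one_ne_zero).2 (by omega)
  unfold altP at h3
  rw [h3, mul_one]

theorem esymm_map_pow (S : Multiset ℂ) (j m : ℕ) :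
    ((S.powersetCard j).map fun I => I.prod ^ m).sum = (S.map (· ^ m)).esymm j := by
  rw [Multiset.esymm, Multiset.powersetCard_map, Multiset.map_map]
  refine congrArg Multiset.sum (Multiset.map_congr rfl fun I _ => ?_)
  simp [Multiset.prod_map_pow]

theorem sum_neg_one_pow_powerset (S : Multiset ℂ) (m : ℕ) :
    (S.powerset.map fun I => (-1 : ℂ) ^ I.card * I.prod ^ m).sum = (S.map fun a => 1 - a ^ m).prod := by
  induction S using Multiset.induction_on with
  | empty => simp
  | cons a T ih =>
    rw [Multiset.powerset_cons, Multiset.map_add, Multiset.sum_add, Multiset.map_map, Multiset.map_cons,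
      Multiset.prod_cons, ← ih, sub_mul, one_mul, ← Multiset.sum_map_mul_left, sub_eq_add_neg,
      ← Multiset.sum_map_neg']
    refine congrArg _ (congrArg Multiset.sum ?_)
    rw [Multiset.map_map]
    refine Multiset.map_congr rfl fun I _ => ?_
    simp [pow_succ, mul_pow]
    ring

theorem constantCoeff_prod (T : Multiset ℂ) :
    PowerSeries.constantCoeff (((T.map fun c => (1 : ℂ[X]) - C c * X).prod : ℂ[X]) : PowerSeries ℂ) = 1 := by
  induction T using Multiset.induction_on with
  | empty => simp
  | cons a T ih => rw [Multiset.map_cons, Multiset.prod_cons, coe_mul, map_mul, ih, mul_one]; simp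

open WeilLib in
theorem logD_prod (T : Multiset ℂ) :
    LogD (((T.map fun c => (1 : ℂ[X]) - C c * X).prod : ℂ[X]) : PowerSeries ℂ)
      (PowerSeries.mk fun m => -(T.map fun c => c ^ (m + 1)).sum) := by
  induction T using Multiset.induction_on with
  | empty =>
    unfold LogD
    simp only [Multiset.map_zero, Multiset.prod_zero, coe_one, one_mul, Multiset.sum_zero, neg_zero]
    simp
    ext m
    simp
  | cons a T ih =>
    rw [Multiset.map_cons, Multiset.prod_cons, coe_mul]
    have h1 : LogD (((1 : ℂ[X]) - C a * X : ℂ[X]) : PowerSeries ℂ) (PowerSeries.mk fun m => -a ^ (m + 1)) := by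
      unfold LogD
      rw [coe_sub, coe_one, coe_mul, coe_C, coe_X]
      ext m
      rw [PowerSeries.coeff_derivative, sub_mul, one_mul, map_sub, map_sub, mul_assoc, PowerSeries.coeff_C_mul,
        PowerSeries.coeff_C_mul, PowerSeries.coeff_mk, PowerSeries.coeff_one, PowerSeries.coeff_X]
      cases m with
      | zero => simp
      | succ m => simp [PowerSeries.coeff_succ_X_mul, pow_succ]; ring
    convert h1.mul ih using 1
    ext m
    simp only [map_add, PowerSeries.coeff_mk, Multiset.map_cons, Multiset.sum_cons]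
    ring

/-- A polynomial `∏ (1 - cX)` with integral `c` and integral power sums has integer coefficients. -/
theorem exists_int_poly (T : Multiset ℂ) (hi : ∀ c ∈ T, IsIntegral ℤ c)
    (hs : ∀ m : ℕ, ∃ N : ℤ, (T.map fun c : ℂ => c ^ (m + 1)).sum = (N : ℂ)) :
    ∃ Q : ℤ[X], Q.map (Int.castRingHom ℂ) = (T.map fun c => (1 : ℂ[X]) - C c * X).prod := by
  set G := (T.map fun c => (1 : ℂ[X]) - C c * X).prod
  have hd := logD_prod T
  have hrat : ∀ m, G.coeff m ∈ (algebraMap ℚ ℂ).fieldRange := by
    intro m
    induction m using Nat.strong_induction_on with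
    | _ m ih =>
      rcases m with _ | m
      · have := constantCoeff_prod T
        rw [← PowerSeries.coeff_zero_eq_constantCoeff_apply, coeff_coe] at this
        rw [this]
        exact one_mem _
      · have h := congrArg (PowerSeries.coeff m) hd
        rw [PowerSeries.coeff_derivative, PowerSeries.coeff_mul, coeff_coe] at h
        rw [← mul_div_cancel_right₀ (G.coeff (m + 1)) (Nat.cast_add_one_ne_zero (R := ℂ) m), h]
        refine div_mem (sum_mem fun x hx => mul_mem ?_ ?_) (add_mem (natCast_mem _ m) (one_mem _))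
        · rw [coeff_coe]
          exact ih x.1 (by have := Finset.HasAntidiagonal.mem_antidiagonal.mp hx; omega)
        · rw [PowerSeries.coeff_mk]
          obtain ⟨N, hN⟩ := hs x.2
          rw [hN]
          exact neg_mem (intCast_mem _ N)
  have hint : G ∈ Polynomial.lifts (algebraMap (integralClosure ℤ ℂ) ℂ) := by
    refine multiset_prod_mem _ fun x hx => ?_
    obtain ⟨c, hc, rfl⟩ := Multiset.mem_map.1 hx
    exact (Polynomial.mem_lifts _).2 ⟨1 - C (⟨c, hi c hc⟩ : integralClosure ℤ ℂ) * X, by simp⟩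
  have hmem : G ∈ Polynomial.lifts (Int.castRingHom ℂ) := by
    refine (Polynomial.lifts_iff_coeff_lifts G).2 fun m => ?_
    obtain ⟨q, hq⟩ := hrat m
    obtain ⟨y, hy⟩ := (Polynomial.lifts_iff_coeff_lifts G).1 hint m
    have : IsIntegral ℤ (G.coeff m) := hy ▸ y.2
    rw [← hq] at this ⊢
    obtain ⟨z, hz⟩ := IsIntegrallyClosed.isIntegral_iff.1 ((isIntegral_algebraMap_iff (algebraMap ℚ ℂ).injective).1 this)
    exact ⟨z, by rw [← hz]; simp⟩
  exact (Polynomial.mem_lifts _).1 hmem

open WeilLib in
/-- `Z · ∏_{even} P_j = ∏_{odd} P_j`. -/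
theorem zeta_identity (S : Multiset ℂ) (N : ℕ → ℚ) (hN0 : N 0 = 0)
    (hN : ∀ m, 0 < m → (N m : ℂ) = (S.map fun a => 1 - a ^ m).prod) :
    PowerSeries.map (algebraMap ℚ ℂ) (PowerSeries.subst (PowerSeries.mk fun m => N m / m) (PowerSeries.exp ℚ)) *
        ∏ j ∈ (Finset.range (S.card + 1)).filter (fun j => Even j), ((Pj S j : ℂ[X]) : PowerSeries ℂ) =
      ∏ j ∈ (Finset.range (S.card + 1)).filter (fun j => Odd j), ((Pj S j : ℂ[X]) : PowerSeries ℂ) := by
  classical
  obtain ⟨hZ, hZ0⟩ := logD_exp_subst (K := ℂ) N hN0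
  have hprod : ∀ (P : ℕ → Prop) [DecidablePred P],
      ∏ j ∈ (Finset.range (S.card + 1)).filter P, ((Pj S j : ℂ[X]) : PowerSeries ℂ) =
        (((((S.powerset.filter fun I => P I.card).map Multiset.prod).map fun c => (1 : ℂ[X]) - C c * X).prod : ℂ[X]) :
          PowerSeries ℂ) := by
    intro P _
    rw [← Polynomial.coeToPowerSeries.ringHom_apply, Multiset.map_map]
    simp only [← Polynomial.coeToPowerSeries.ringHom_apply]
    rw [← map_prod, prod_filter_powerset_eq S _ P]
    refine congrArg _ ?_
    clear hZ hZ0 hN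
    induction S.powerset using Multiset.induction_on with
    | empty => simp
    | cons I s ih =>
      by_cases h : P I.card
      · rw [Multiset.filter_cons_of_pos (p := fun I : Multiset ℂ => P I.card) s h, Multiset.map_cons, Multiset.prod_cons, ih, Multiset.map_cons,
          Multiset.prod_cons, if_pos h]
        rfl
      · rw [Multiset.filter_cons_of_neg (p := fun I : Multiset ℂ => P I.card) s h, Multiset.map_cons, Multiset.prod_cons, if_neg h, one_mul, ih]
  rw [hprod, hprod]
  have hev := logD_prod ((S.powerset.filter fun I => Even I.card).map Multiset.prod)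
  have hod := logD_prod ((S.powerset.filter fun I => Odd I.card).map Multiset.prod)
  refine LogD.unique (hZ.mul hev) ?_ (by rw [map_mul, hZ0, constantCoeff_prod, constantCoeff_prod, one_mul])
  suffices e : ∀ m, PowerSeries.coeff m ((PowerSeries.mk fun m => (N (m + 1) : ℂ)) +
      PowerSeries.mk fun m => -((((S.powerset.filter fun I => Even I.card).map Multiset.prod).map
        fun c => c ^ (m + 1)).sum)) = PowerSeries.coeff m (PowerSeries.mk fun m =>
      -((((S.powerset.filter fun I => Odd I.card).map Multiset.prod).map fun c => c ^ (m + 1)).sum)) by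
    rw [PowerSeries.ext e]; exact hod
  intro m
  rw [map_add, PowerSeries.coeff_mk, PowerSeries.coeff_mk, PowerSeries.coeff_mk, hN _ m.succ_pos,
    ← sum_neg_one_pow_powerset, Multiset.map_map, Multiset.map_map]
  conv_lhs => arg 1; rw [← Multiset.filter_add_not (fun I => Even (Multiset.card I)) S.powerset]
  rw [Multiset.map_add, Multiset.sum_add,
    Multiset.map_congr rfl (g := fun I => I.prod ^ (m + 1)) fun I hI => by
      rw [(Multiset.mem_filter.1 hI).2.neg_one_pow, one_mul]]
  rw [Multiset.filter_congr (p := fun I => ¬ Even (Multiset.card I)) (q := fun I => Odd I.card)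
      fun I _ => Nat.not_even_iff_odd,
    Multiset.map_congr rfl (g := fun I => -(I.prod ^ (m + 1))) (s := S.powerset.filter fun I => Odd I.card) fun I hI => by
      rw [(Multiset.mem_filter.1 hI).2.neg_one_pow, neg_one_mul], Multiset.sum_map_neg]
  simp only [Function.comp_def]
  ring

end Groth.Agent.LinAlg.AltProd
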