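/-
Semisimple `K[X]`-modules of finite dimension: charpoly and dimension of the space of morphisms.
-/
import Mathlib

set_option autoImplicit false
universe u v w

open Polynomial Module

namespace Groth.Agent.LinAlg.SemisimpleHom

variable {K : Type u} [Field K]

/-- The simple `K[X]`-module attached to `P`. -/
abbrev Q (P : K[X]) : Type u := K[X] ⧸ Ideal.span ({P} : Set K[X])

variable (K) in
/-- Multiplication by `X`. -/
noncomputable abbrev Xop (M : Type v) [AddCommGroup M] [Module K M] [Module K[X] M]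
    [IsScalarTower K K[X] M] : M →ₗ[K] M := Algebra.lsmul K K M (X : K[X])

lemma aeval_Xop {M : Type v} [AddCommGroup M] [Module K M] [Module K[X] M]
    [IsScalarTower K K[X] M] (p : K[X]) (m : M) : aeval (Xop K M) p m = p • m := by
  rw [Xop, aeval_algHom_apply, aeval_X_left_apply]
  rfl

lemma smul_Q {P : K[X]} (p : K[X]) (x : Q P) : p • x = Ideal.Quotient.mk _ p * x := by
  obtain ⟨x, rfl⟩ := Ideal.Quotient.mk_surjective x
  rfl

lemma finrank_Q {P : K[X]} (hP : P.Monic) : finrank K (Q P) = P.natDegree := by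
  exact finrank_quotient_span_eq_natDegree

lemma finite_Q {P : K[X]} (hP : P.Monic) : Module.Finite K (Q P) :=
  Module.Finite.of_basis (AdjoinRoot.powerBasis' hP).basis

lemma charpoly_Q {P : K[X]} (hP : P.Monic) :
    haveI := finite_Q hP; (Xop K (Q P)).charpoly = P := by
  haveI := finite_Q hP
  set f := (Xop K (Q P)).charpoly with hf
  have h1 : f • (1 : Q P) = 0 := by
    rw [← aeval_Xop, hf, LinearMap.aeval_self_charpoly]; rfl
  have h2 : P ∣ f := by
    have h3 : f • (1 : Q P) = Ideal.Quotient.mk _ f := by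
      rw [smul_Q, _root_.mul_one]
    rwa [← Ideal.mem_span_singleton, ← Ideal.Quotient.eq_zero_iff_mem, ← h3]
  exact Polynomial.eq_of_monic_of_dvd_of_natDegree_le hP (LinearMap.charpoly_monic _) h2
    (by rw [LinearMap.charpoly_natDegree, finrank_Q hP])

lemma charpoly_congr {M : Type v} {N : Type w} [AddCommGroup M] [Module K M] [Module K[X] M]
    [IsScalarTower K K[X] M] [AddCommGroup N] [Module K N] [Module K[X] N]
    [IsScalarTower K K[X] N] [Module.Finite K M] [Module.Finite K N] (e : M ≃ₗ[K[X]] N) :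
    (Xop K N).charpoly = (Xop K M).charpoly := by
  rw [← LinearEquiv.charpoly_conj (e.restrictScalars K) (Xop K M)]
  congr 1
  ext n
  simp [LinearEquiv.conj_apply]

lemma charpoly_pi_Q : ∀ (n : ℕ) (P : Fin n → K[X]) (hP : ∀ i, (P i).Monic),
    haveI : ∀ i, Module.Finite K (Q (P i)) := fun i => finite_Q (hP i);
    (Xop K (∀ i, Q (P i))).charpoly = ∏ i, P i := by
  intro n
  induction n with
  | zero =>
    intro P hP
    haveI : ∀ i, Module.Finite K (Q (P i)) := fun i => finite_Q (hP i)
    rw [Fin.prod_univ_zero]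
    refine Polynomial.eq_one_of_monic_natDegree_zero (LinearMap.charpoly_monic _) ?_
    rw [LinearMap.charpoly_natDegree]
    exact finrank_zero_of_subsingleton
  | succ n ih =>
    intro P hP
    haveI : ∀ i, Module.Finite K (Q (P i)) := fun i => finite_Q (hP i)
    let e : (Q (P 0) × ∀ i : Fin n, Q (P i.succ)) ≃ₗ[K[X]] ∀ i, Q (P i) :=
      { (Fin.consEquiv fun i => Q (P i)) with
        map_add' := fun a b => by
          funext i; refine Fin.cases ?_ (fun j => ?_) i <;> simp [Fin.consEquiv]
        map_smul' := fun c a => by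
          funext i; refine Fin.cases ?_ (fun j => ?_) i <;> simp [Fin.consEquiv] }
    rw [charpoly_congr e, Fin.prod_univ_succ]
    have : Xop K (Q (P 0) × ∀ i : Fin n, Q (P i.succ)) =
        (Xop K (Q (P 0))).prodMap (Xop K (∀ i : Fin n, Q (P i.succ))) := rfl
    rw [this, LinearMap.charpoly_prodMap, charpoly_Q (hP 0), ih (fun i => P i.succ) fun i => hP _]

lemma exists_decomp (M : Type v) [AddCommGroup M] [Module K M] [Module K[X] M]
    [IsScalarTower K K[X] M] [Module.Finite K M] [IsSemisimpleModule K[X] M] :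
    ∃ (n : ℕ) (P : Fin n → K[X]) (_ : M ≃ₗ[K[X]] ∀ i, Q (P i)),
      (∀ i, (P i).Monic) ∧ ∀ i, Irreducible (P i) := by
  classical
  haveI : Module.Finite K[X] M := Module.Finite.of_restrictScalars_finite K _ _
  obtain ⟨n, S, e, hS⟩ := IsSemisimpleModule.exists_linearEquiv_fin_dfinsupp K[X] M
  haveI : ∀ i, Module.Finite K (S i) := fun i =>
    inferInstanceAs (Module.Finite K ((S i).restrictScalars K))
  have key : ∀ i, ∃ (P : K[X]), P.Monic ∧ Irreducible P ∧ Nonempty (S i ≃ₗ[K[X]] Q P) := by
    intro i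
    obtain ⟨I, hI, ⟨f⟩⟩ := isSimpleModule_iff_quot_maximal.mp (hS i)
    obtain ⟨p, rfl⟩ : ∃ p, I = Ideal.span {p} :=
      ⟨Submodule.IsPrincipal.generator I, (Ideal.span_singleton_generator I).symm⟩
    have hp : p ≠ 0 := by
      rintro rfl
      haveI : Module.Finite K (Q (0 : K[X])) :=
        Module.Finite.equiv (f.restrictScalars K)
      let g : K[X] ≃ₗ[K] Q (0 : K[X]) :=
        ((Submodule.quotEquivOfEqBot _ (Ideal.span_singleton_eq_bot.mpr rfl)).symm).restrictScalars K
      haveI : Module.Finite K K[X] := Module.Finite.equiv g.symm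
      exact Polynomial.not_finite this
    refine ⟨normalize p, Polynomial.monic_normalize hp, ?_, ?_⟩
    · rw [(normalize_associated p).irreducible_iff]
      exact Ideal.span_singleton_prime hp |>.mp hI.isPrime |>.irreducible
    · exact ⟨f.trans (Submodule.quotEquivOfEq _ _
        (Ideal.span_singleton_eq_span_singleton.mpr (normalize_associated p).symm))⟩
  choose P h1 h2 h3 using key
  exact ⟨n, P, (e.trans DFinsupp.linearEquivFunOnFintype).trans
    (LinearEquiv.piCongrRight fun i => (h3 i).some), h1, h2⟩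

lemma normalizedFactors_prod {n : ℕ} (P : Fin n → K[X]) (h1 : ∀ i, (P i).Monic)
    (h2 : ∀ i, Irreducible (P i)) [DecidableEq K] :
    UniqueFactorizationMonoid.normalizedFactors (∏ i, P i) = Finset.univ.val.map P := by
  rw [← Finset.prod_map_val]
  rw [UniqueFactorizationMonoid.normalizedFactors_prod_eq _ fun a ha => ?_, Multiset.map_map]
  · exact Multiset.map_congr rfl fun i _ => (h1 i).normalize_eq_self
  · obtain ⟨i, -, rfl⟩ := Multiset.mem_map.mp ha
    exact h2 i

section Hom

set_option synthInstance.maxHeartbeats 100000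

/-- Evaluation at `1`. -/
noncomputable def ev (P : K[X]) (P' : K[X]) : (Q P →ₗ[K[X]] Q P') →ₗ[K] Q P' where
  toFun f := f 1
  map_add' _ _ := rfl
  map_smul' _ _ := rfl

lemma ev_injective (P P' : K[X]) : Function.Injective (ev P P') := by
  intro f g h
  ext x
  have h' : f 1 = g 1 := h
  simpa using! h'

lemma finite_homQ {P P' : K[X]} (hP' : P'.Monic) : Module.Finite K (Q P →ₗ[K[X]] Q P') :=
  haveI := finite_Q hP'; Module.Finite.of_injective _ (ev_injective P P')

lemma finrank_homQ [DecidableEq K] {P P' : K[X]} (hP : P.Monic) (hP' : P'.Monic) (h : Irreducible P)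
    (h' : Irreducible P') :
    finrank K (Q P →ₗ[K[X]] Q P') = if P = P' then P'.natDegree else 0 := by
  split_ifs with hh
  · subst hh
    rw [← finrank_Q hP]
    refine LinearEquiv.finrank_eq (LinearEquiv.ofBijective (ev P P) ⟨ev_injective P P, fun x => ?_⟩)
    refine ⟨Submodule.liftQ _ (LinearMap.toSpanSingleton K[X] (Q P) x) ?_, ?_⟩
    · intro p hp
      rw [LinearMap.mem_ker, LinearMap.toSpanSingleton_apply, smul_Q,
        Ideal.Quotient.eq_zero_iff_mem.mpr hp, zero_mul]
    · exact one_smul K[X] x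
  · suffices Subsingleton (Q P →ₗ[K[X]] Q P') from finrank_zero_of_subsingleton
    refine subsingleton_of_forall_eq 0 fun f => ev_injective P P' ?_
    have h1 : P • f 1 = 0 := by
      rw [← map_smul, smul_Q, mul_one,
        Ideal.Quotient.eq_zero_iff_mem.mpr (Ideal.mem_span_singleton_self P), map_zero]
    have hcop : IsCoprime P P' := by
      refine (h.coprime_iff_not_dvd).mpr fun hd => hh ?_
      exact eq_of_monic_of_associated hP hP' (h.associated_of_dvd h' hd)
    obtain ⟨a, b, hab⟩ := hcop
    show f 1 = 0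
    calc f 1 = (a * P + b * P') • f 1 := by rw [hab, one_smul]
      _ = 0 := by
        rw [add_smul, mul_smul, h1, smul_zero, zero_add, mul_smul, smul_Q P',
          Ideal.Quotient.eq_zero_iff_mem.mpr (Ideal.mem_span_singleton_self P'), zero_mul,
          smul_zero]

/-- `Hom` into a product. -/
noncomputable def piEquiv (M : Type v) [AddCommGroup M] [Module K[X] M] {ι : Type} (N : ι → Type w)
    [∀ i, AddCommGroup (N i)] [∀ i, Module K[X] (N i)] [∀ i, Module K (N i)]
    [∀ i, IsScalarTower K K[X] (N i)] :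
    (M →ₗ[K[X]] ∀ i, N i) ≃ₗ[K] ∀ i, M →ₗ[K[X]] N i where
  toFun f i := (LinearMap.proj i).comp f
  map_add' _ _ := rfl
  map_smul' _ _ := rfl
  invFun g := LinearMap.pi g
  left_inv _ := rfl
  right_inv _ := rfl

lemma finrank_hom_pi {n m : ℕ} (P : Fin n → K[X]) (P' : Fin m → K[X]) (hP : ∀ i, (P i).Monic)
    (hP' : ∀ i, (P' i).Monic) (h : ∀ i, Irreducible (P i)) (h' : ∀ i, Irreducible (P' i))
    [DecidableEq K] :
    finrank K ((∀ i, Q (P i)) →ₗ[K[X]] (∀ j, Q (P' j))) =
      ∑ i, ∑ j, if P i = P' j then (P' j).natDegree else 0 := by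
  haveI : ∀ i j, Module.Finite K (Q (P i) →ₗ[K[X]] Q (P' j)) := fun i j => finite_homQ (hP' j)
  haveI hfr : ∀ i j, Module.Free K (Q (P i) →ₗ[K[X]] Q (P' j)) := fun i j => inferInstance
  haveI : ∀ i, Module.Free K (∀ j, Q (P i) →ₗ[K[X]] Q (P' j)) := fun i =>
    @Module.Free.pi _ K _ _ _ _ _ (hfr i)
  let e : ((∀ i, Q (P i)) →ₗ[K[X]] (∀ j, Q (P' j))) ≃ₗ[K]
      (∀ i j, Q (P i) →ₗ[K[X]] Q (P' j)) :=
    ((LinearMap.lsum K[X] (fun i => Q (P i)) K).symm).trans
      (LinearEquiv.piCongrRight fun i => piEquiv (Q (P i)) fun j => Q (P' j))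
  rw [e.finrank_eq, finrank_pi_fintype]
  refine Finset.sum_congr rfl fun i _ => ?_
  rw [finrank_pi_fintype]
  exact Finset.sum_congr rfl fun j _ => finrank_homQ (hP i) (hP' j) (h i) (h' j)

end Hom

/-- Main statement, for modules. -/
theorem finrank_hom (M : Type v) (N : Type w) [AddCommGroup M] [Module K M] [Module K[X] M]
    [IsScalarTower K K[X] M] [Module.Finite K M] [IsSemisimpleModule K[X] M]
    [AddCommGroup N] [Module K N] [Module K[X] N] [IsScalarTower K K[X] N] [Module.Finite K N]
    [IsSemisimpleModule K[X] N] [DecidableEq K] :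
    finrank K (M →ₗ[K[X]] N) =
      ∑ P ∈ (UniqueFactorizationMonoid.normalizedFactors (Xop K M).charpoly).toFinset,
        (UniqueFactorizationMonoid.normalizedFactors (Xop K M).charpoly).count P *
        (UniqueFactorizationMonoid.normalizedFactors (Xop K N).charpoly).count P * P.natDegree := by
  obtain ⟨n, P, e, hP, hPi⟩ := exists_decomp (K := K) M
  obtain ⟨m, P', e', hP', hPi'⟩ := exists_decomp (K := K) N
  haveI : ∀ i, Module.Finite K (Q (P i)) := fun i => finite_Q (hP i)
  haveI : ∀ i, Module.Finite K (Q (P' i)) := fun i => finite_Q (hP' i)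
  have eh : (M →ₗ[K[X]] N) ≃ₗ[K] ((∀ i, Q (P i)) →ₗ[K[X]] (∀ j, Q (P' j))) :=
    (LinearEquiv.arrowCongr e e').restrictScalars K
  rw [eh.finrank_eq, finrank_hom_pi P P' hP hP' hPi hPi', ← charpoly_congr e, ← charpoly_congr e',
    charpoly_pi_Q n P hP, charpoly_pi_Q m P' hP', normalizedFactors_prod P hP hPi,
    normalizedFactors_prod P' hP' hPi']
  have hj : ∀ i, (∑ j, if P i = P' j then (P' j).natDegree else 0) =
      (Finset.univ.val.map P').count (P i) * (P i).natDegree := by
    intro i
    rw [Multiset.count_map, ← Finset.filter_val, Finset.card_val, Finset.card_filter,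
      Finset.sum_mul]
    refine Finset.sum_congr rfl fun j _ => ?_
    split_ifs with hh
    · rw [hh, one_mul]
    · rw [zero_mul]
  rw [Finset.sum_congr rfl fun i _ => hj i]
  set S := Finset.univ.val.map P
  set T := Finset.univ.val.map P'
  have := Finset.sum_multiset_map_count S (fun x => T.count x * x.natDegree)
  rw [Multiset.map_map] at this
  rw [show (∑ i, T.count (P i) * (P i).natDegree) =
    (Multiset.map ((fun x => T.count x * x.natDegree) ∘ P) Finset.univ.val).sum from rfl, this]
  refine Finset.sum_congr rfl fun x _ => ?_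
  rw [smul_eq_mul, _root_.mul_assoc]

/-- The intertwiners as morphisms of `K[X]`-modules. -/
noncomputable def intertwinerEquiv {V₁ : Type v} {V₂ : Type w} [AddCommGroup V₁] [Module K V₁]
    [AddCommGroup V₂] [Module K V₂] (π₁ : Module.End K V₁) (π₂ : Module.End K V₂) :
    LinearMap.ker (LinearMap.lcomp K V₂ π₁ - LinearMap.llcomp K V₁ V₂ V₂ π₂ :
        (V₁ →ₗ[K] V₂) →ₗ[K] (V₁ →ₗ[K] V₂)) ≃ₗ[K] (AEval' π₁ →ₗ[K[X]] AEval' π₂) where
  toFun h := LinearMap.ofAEval π₁ ((AEval'.of π₂).toLinearMap.comp h.1) fun m => by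
    have := LinearMap.congr_fun (LinearMap.mem_ker.mp h.2) m
    simp only [LinearMap.sub_apply, LinearMap.lcomp_apply, LinearMap.llcomp_apply,
      LinearMap.zero_apply, sub_eq_zero] at this
    rw [LinearMap.comp_apply, LinearMap.comp_apply]
    show (AEval'.of π₂) (h.1 (π₁ m)) = _
    rw [this]
    exact (AEval.X_smul_of π₂ _).symm
  map_add' _ _ := by ext; rfl
  map_smul' _ _ := by ext; rfl
  invFun f := ⟨((AEval'.of π₂).symm.toLinearMap.comp (f.restrictScalars K)).comp
      (AEval'.of π₁).toLinearMap, by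
    rw [LinearMap.mem_ker]
    ext m
    simp only [LinearMap.sub_apply, LinearMap.lcomp_apply, LinearMap.llcomp_apply,
      LinearMap.zero_apply, sub_eq_zero, LinearMap.comp_apply, LinearMap.restrictScalars_apply,
      LinearEquiv.coe_toLinearMap]
    rw [show AEval'.of π₁ (π₁ m) = (X : K[X]) • AEval'.of π₁ m from (AEval.X_smul_of π₁ m).symm,
      map_smul]
    exact AEval.of_symm_X_smul π₂ _⟩
  left_inv h := by ext; rfl
  right_inv f := by ext; rfl

lemma Xop_AEval {V : Type v} [AddCommGroup V] [Module K V] [FiniteDimensional K V]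
    (π : Module.End K V) : (Xop K (AEval' π)).charpoly = π.charpoly := by
  rw [← LinearEquiv.charpoly_conj (AEval'.of π) π]
  congr 1
  refine LinearMap.ext fun m => ?_
  obtain ⟨m, rfl⟩ := (AEval'.of π).surjective m
  rw [LinearEquiv.conj_apply_apply, LinearEquiv.symm_apply_apply]
  exact AEval.X_smul_of π m

end Groth.Agent.LinAlg.SemisimpleHom
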