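import Mathlib

/-!
Lattices over a monogenic order `R[P]`: cyclicity from a small commutant, and duality.
-/

set_option autoImplicit false
set_option backward.isDefEq.respectTransparency false
set_option linter.unusedSectionVars false

open Polynomial
open scoped TensorProduct

noncomputable section

namespace Groth.Agent.LinAlg.Monogenic

variable {R : Type*} [CommRing R] [IsDomain R]
variable {T : Type*} [AddCommGroup T] [Module R T] [Module.Free R T] [Module.Finite R T]

/-- A map whose reduction vanishes is a multiple of the uniformiser. -/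
theorem exists_eq_smul [IsLocalRing R] {ϖ : R} (hϖ : IsLocalRing.maximalIdeal R = Ideal.span {ϖ})
    (F : Module.End R T) (hF : F.baseChange (IsLocalRing.ResidueField R) = 0) :
    ∃ Q : Module.End R T, F = ϖ • Q := by
  classical
  let b := Module.Free.chooseBasis R T
  have h : ∀ i, ∃ y : T, F (b i) = ϖ • y := fun i => by
    have h0 : (1 : IsLocalRing.ResidueField R) ⊗ₜ[R] F (b i) = 0 := by
      rw [← LinearMap.baseChange_tmul, hF, LinearMap.zero_apply]
    have hc : ∀ j, b.repr (F (b i)) j ∈ Ideal.span {ϖ} := fun j => by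
      rw [← hϖ, ← IsLocalRing.residue_eq_zero_iff]
      have := congrArg (fun z => (Algebra.TensorProduct.basis (IsLocalRing.ResidueField R) b).repr z j) h0
      simp only [map_zero, Finsupp.zero_apply, Algebra.TensorProduct.basis_repr_tmul, Finsupp.mapRange_apply,
        one_smul, IsLocalRing.ResidueField.algebraMap_eq] at this
      exact this
    choose c hc' using fun j => Ideal.mem_span_singleton.1 (hc j)
    refine ⟨∑ j, c j • b j, ?_⟩
    rw [Finset.smul_sum]
    exact (b.sum_repr _).symm.trans (Finset.sum_congr rfl fun j _ => by rw [hc' j, mul_smul])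
  choose y hy using h
  exact ⟨b.constr R y, b.ext fun i => by rw [LinearMap.smul_apply, b.constr_basis, hy]⟩

/-- An endomorphism of a vector space whose minimal polynomial has full degree has a cyclic vector. -/
theorem exists_cyclic {κ V : Type*} [Field κ] [AddCommGroup V] [Module κ V] [FiniteDimensional κ V]
    (f : Module.End κ V) (h : (minpoly κ f).natDegree = Module.finrank κ V) :
    ∃ x : V, Submodule.span κ (Set.range fun i : Fin (Module.finrank κ V) => (f ^ (i : ℕ)) x) = ⊤ := by
  obtain ⟨x, hx⟩ := Module.exists_ker_toSpanSingleton_eq_annihilator (R := κ[X]) (M := Module.AEval' f)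
  obtain ⟨v, rfl⟩ := (Module.AEval'.of f).surjective x
  refine ⟨v, LinearIndependent.span_eq_top_of_card_eq_finrank' (Fintype.linearIndependent_iff.2 fun c hc i => ?_)
    (Fintype.card_fin _)⟩
  let q : κ[X] := ∑ i : Fin (Module.finrank κ V), C (c i) * X ^ (i : ℕ)
  have hq0 : q • Module.AEval'.of f v = 0 := by
    rw [← Module.AEval.of_aeval_smul, map_sum]
    refine (map_eq_zero_iff _ (Module.AEval'.of f).injective).2 ?_
    simp only [Finset.sum_smul, map_mul, aeval_C, map_pow, aeval_X, ← Algebra.smul_def, smul_assoc,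
      Module.End.smul_def]
    exact hc
  have hq : aeval f q = 0 := by
    have hmem : q ∈ Module.annihilator κ[X] (Module.AEval' f) := hx ▸ LinearMap.mem_ker.2 hq0
    refine LinearMap.ext fun w => ?_
    have := Module.mem_annihilator.1 hmem (Module.AEval'.of f w)
    rw [← Module.AEval.of_aeval_smul, map_eq_zero_iff _ (Module.AEval'.of f).injective] at this
    exact this
  have hd : q.degree < (minpoly κ f).degree := by
    rw [Polynomial.degree_eq_natDegree (minpoly.ne_zero (IsIntegral.of_finite κ f)), h]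
    exact degree_sum_fin_lt c
  have hz : q = 0 := by
    by_contra hne
    exact not_le.2 hd (minpoly.degree_le_of_ne_zero κ f hne hq)
  have := congrArg (fun p : κ[X] => p.coeff i) hz
  simpa [q, Polynomial.finset_sum_coeff, coeff_C_mul, coeff_X_pow, Fin.val_inj] using this

/-- **A small commutant forces cyclicity.** -/
theorem exists_generator [IsLocalRing R] {ϖ : R} (hϖ : IsLocalRing.maximalIdeal R = Ideal.span {ϖ}) (hϖ0 : ϖ ≠ 0)
    (P : Module.End R T) {m : R[X]} (hm : m.Monic) (hdeg : m.natDegree = Module.finrank R T) (hmP : aeval P m = 0)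
    (hmin : ∀ q : R[X], aeval P q = 0 → q.degree < m.degree → q = 0)
    (hcomm : ∀ Q : Module.End R T, Q * P = P * Q → ∃ h : R[X], Q = aeval P h) :
    ∃ x : T, ∃ b : Module.Basis (Fin (Module.finrank R T)) R T, ∀ i, b i = (P ^ (i : ℕ)) x := by
  let κ := IsLocalRing.ResidueField R
  let P' : Module.End κ (κ ⊗[R] T) := P.baseChange κ
  have hfr : Module.finrank κ (κ ⊗[R] T) = Module.finrank R T := Module.finrank_baseChange
  have hbc : ∀ h : R[X], (aeval P h).baseChange κ = aeval P' (h.map (algebraMap R κ)) := fun h => by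
    rw [aeval_map_algebraMap]
    exact (aeval_algHom_apply (Module.End.baseChangeHom R κ T) P h).symm
  -- the minimal polynomial of the reduction has full degree
  have hdeg' : (minpoly κ P').natDegree = Module.finrank κ (κ ⊗[R] T) := by
    refine le_antisymm ((natDegree_le_of_dvd (LinearMap.minpoly_dvd_charpoly P') (LinearMap.charpoly_monic P').ne_zero).trans
      (LinearMap.charpoly_natDegree P').le) (le_of_not_gt fun hlt => ?_)
    obtain ⟨g, hg, hgd, hgm⟩ := lifts_and_degree_eq_and_monic (f := algebraMap R κ)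
      (p := minpoly κ P') (by
        rw [lifts_iff_coeff_lifts]
        exact fun n => IsLocalRing.residue_surjective (R := R) _) (minpoly.monic (IsIntegral.of_finite κ P'))
    obtain ⟨Q, hQ⟩ := exists_eq_smul hϖ (aeval P g) (by rw [hbc, hg]; exact minpoly.aeval κ P')
    have hQP : Q * P = P * Q := by
      refine LinearMap.ext fun x => smul_right_injective T hϖ0 ?_
      show ϖ • (Q (P x)) = ϖ • (P (Q x))
      rw [← LinearMap.smul_apply, ← map_smul, ← LinearMap.smul_apply ϖ Q x, ← hQ, ← Module.End.mul_apply,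
        ← Module.End.mul_apply]
      have hc := congrArg (aeval P) (commute_X g).eq
      rw [map_mul, map_mul, aeval_X] at hc
      rw [hc]
    obtain ⟨h₀, hh₀⟩ := hcomm Q hQP
    let h := h₀ %ₘ m
    have hh : Q = aeval P h := by rw [hh₀, aeval_modByMonic_eq_self_of_root hmP]
    have hgdeg : g.degree < m.degree := by
      rw [hgd, Polynomial.degree_eq_natDegree (minpoly.ne_zero (IsIntegral.of_finite κ P')),
        Polynomial.degree_eq_natDegree hm.ne_zero, hdeg, ← hfr]
      exact_mod_cast hlt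
    have hz := hmin (g - C ϖ * h) (by rw [map_sub, map_mul, aeval_C, ← Algebra.smul_def, ← hh, hQ, sub_self])
      ((degree_sub_le _ _).trans_lt (max_lt hgdeg
        ((degree_mul_le _ _).trans_lt (lt_of_le_of_lt (add_le_of_nonpos_left degree_C_le) (degree_modByMonic_lt _ hm)))))
    have hc := congrArg (fun p : R[X] => p.coeff g.natDegree) hz
    simp only [coeff_sub, coeff_C_mul, coeff_zero, sub_eq_zero, hgm.coeff_natDegree] at hc
    exact (IsLocalRing.maximalIdeal.isMaximal R).ne_top (hϖ ▸ Ideal.span_singleton_eq_top.2 (IsUnit.of_mul_eq_one _ hc.symm))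
  obtain ⟨x', hx'⟩ := exists_cyclic P' hdeg'
  obtain ⟨x, rfl⟩ := TensorProduct.mk_surjective R T κ IsLocalRing.residue_surjective x'
  have hspan : Submodule.span R (Set.range fun i : Fin (Module.finrank R T) => (P ^ (i : ℕ)) x) = ⊤ := by
    refine IsLocalRing.map_tensorProduct_mk_eq_top.1 (eq_top_iff.2 fun z _ => ?_)
    have hz : z ∈ Submodule.span κ (Set.range fun i : Fin (Module.finrank κ (κ ⊗[R] T)) =>
        (P' ^ (i : ℕ)) ((1 : κ) ⊗ₜ[R] x)) := hx'.ge trivial
    refine Submodule.span_induction ?_ (Submodule.zero_mem _) (fun a b _ _ => Submodule.add_mem _) ?_ hz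
    · rintro _ ⟨i, rfl⟩
      refine ⟨(P ^ (i : ℕ)) x, Submodule.subset_span ⟨⟨i, hfr ▸ i.2⟩, rfl⟩, ?_⟩
      show (1 : κ) ⊗ₜ[R] _ = (P' ^ (i : ℕ)) ((1 : κ) ⊗ₜ[R] x)
      rw [show P' ^ (i : ℕ) = (P ^ (i : ℕ)).baseChange κ from (LinearMap.baseChange_pow R κ T P _).symm,
        LinearMap.baseChange_tmul]
    · intro a y _ hy
      obtain ⟨r, rfl⟩ := IsLocalRing.residue_surjective (R := R) a
      rw [← IsLocalRing.ResidueField.algebraMap_eq, algebraMap_smul]
      exact Submodule.smul_mem _ r hy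
  let b := Module.Basis.mk (linearIndependent_of_top_le_span_of_card_eq_finrank hspan.ge (Fintype.card_fin _)) hspan.ge
  exact ⟨x, b, fun i => Module.Basis.mk_apply _ _ i⟩

section Dual

variable {n : ℕ} (P : Module.End R T) {x : T} (b : Module.Basis (Fin n) R T) (hb : ∀ i, b i = (P ^ (i : ℕ)) x)

/-- The top coefficient functional. -/
def top : T →ₗ[R] R := ∑ i : Fin n, if (i : ℕ) + 1 = n then b.coord i else 0

include hb in
theorem top_pow {j : ℕ} (hj : j < n) : top b ((P ^ j) x) = if j + 1 = n then 1 else 0 := by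
  have e : (P ^ j) x = b ⟨j, hj⟩ := (hb ⟨j, hj⟩).symm
  rw [e, top, LinearMap.sum_apply, Finset.sum_eq_single ⟨j, hj⟩]
  · by_cases h : j + 1 = n <;> simp [h]
  · intro i _ hi
    split <;> simp [Finsupp.single_eq_of_ne hi]
  · simp

/-- The trace pairing with the powers of `P`. -/
def pair : T →ₗ[R] (Fin n → R) := LinearMap.pi fun j => top b ∘ₗ (P ^ (j : ℕ))

include hb in
theorem pair_bijective : Function.Bijective (pair P b) := by
  classical
  let b' := b.reindex Fin.revPerm
  have hM : ∀ j i, LinearMap.toMatrix b' (Pi.basisFun R (Fin n)) (pair P b) j i =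
      top b ((P ^ ((j : ℕ) + (n - 1 - i))) x) := by
    intro j i
    rw [LinearMap.toMatrix_apply, Pi.basisFun_repr, Module.Basis.reindex_apply]
    show top b ((P ^ (j : ℕ)) (b (Fin.revPerm.symm i))) = _
    rw [hb, ← Module.End.mul_apply, ← pow_add, Fin.revPerm_symm, Fin.revPerm_apply, Fin.val_rev,
      show n - ((i : ℕ) + 1) = n - 1 - i by omega]
  have hdet : IsUnit (LinearMap.toMatrix b' (Pi.basisFun R (Fin n)) (pair P b)).det := by
    rw [Matrix.det_of_isLowerTriangular, Finset.prod_congr rfl fun i _ => ?_, Finset.prod_const_one]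
    · exact isUnit_one
    · rw [hM, top_pow P b hb (by omega), if_pos (by omega)]
    · intro j i hij
      have hji : (j : ℕ) < i := hij
      rw [hM, top_pow P b hb (by omega), if_neg (by omega)]
  exact (LinearEquiv.ofIsUnitDet hdet).bijective

variable {S : Type*} [AddCommGroup S] [Module R S] (Q : Module.End R S) {m : R[X]}

theorem eval_agree (hm : m.Monic) (hdeg : m.natDegree = n) (hmP : aeval P m = 0) (hmQ : aeval Q m = 0)
    (ψ : S →ₗ[R] R) (y : T) (a : S) (h : ∀ j : Fin n, top b ((P ^ (j : ℕ)) y) = ψ ((Q ^ (j : ℕ)) a)) (q : R[X]) :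
    top b (aeval P q y) = ψ (aeval Q q a) := by
  rw [← aeval_modByMonic_eq_self_of_root hmP, ← aeval_modByMonic_eq_self_of_root hmQ (q := m) (p := q)]
  let r := q %ₘ m
  show top b (aeval P r y) = ψ (aeval Q r a)
  by_cases hn : n = 0
  · have : m = 1 := by exact Polynomial.eq_one_of_monic_natDegree_zero hm (hdeg.trans hn)
    simp [r, this]
  have hr : r.natDegree < n := hdeg ▸ natDegree_modByMonic_lt q hm (fun h1 => hn (by rw [← hdeg, h1, natDegree_one]))
  rw [aeval_eq_sum_range' hr, aeval_eq_sum_range' hr]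
  simp only [LinearMap.sum_apply, LinearMap.smul_apply, map_sum, map_smul]
  exact Finset.sum_congr rfl fun i hi => congrArg _ (h ⟨i, Finset.mem_range.1 hi⟩)

include hb in
/-- An intertwiner is determined by its top coefficient. -/
theorem intertwiner_ext (φ φ' : S →ₗ[R] T) (h : φ ∘ₗ Q = P ∘ₗ φ) (h' : φ' ∘ₗ Q = P ∘ₗ φ')
    (he : top b ∘ₗ φ = top b ∘ₗ φ') : φ = φ' := by
  refine LinearMap.ext fun a => (pair_bijective P b hb).1 (funext fun j => ?_)
  have hc : ∀ ψ : S →ₗ[R] T, ψ ∘ₗ Q = P ∘ₗ ψ → ∀ i : ℕ, (P ^ i) (ψ a) = ψ ((Q ^ i) a) := by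
    intro ψ hψ i
    induction i with
    | zero => rfl
    | succ i ih => rw [pow_succ', pow_succ', Module.End.mul_apply, Module.End.mul_apply, ih]
                   exact (LinearMap.congr_fun hψ _).symm
  show top b ((P ^ (j : ℕ)) (φ a)) = top b ((P ^ (j : ℕ)) (φ' a))
  rw [hc φ h, hc φ' h']
  exact LinearMap.congr_fun he _

include hb in
/-- Every functional is the top coefficient of an intertwiner. -/
theorem exists_intertwiner (hm : m.Monic) (hdeg : m.natDegree = n) (hmP : aeval P m = 0) (hmQ : aeval Q m = 0)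
    (ψ : S →ₗ[R] R) : ∃ φ : S →ₗ[R] T, φ ∘ₗ Q = P ∘ₗ φ ∧ top b ∘ₗ φ = ψ := by
  let e := LinearEquiv.ofBijective (pair P b) (pair_bijective P b hb)
  let φ : S →ₗ[R] T := e.symm.toLinearMap ∘ₗ LinearMap.pi fun j : Fin n => ψ ∘ₗ (Q ^ (j : ℕ))
  have h : ∀ a (j : Fin n), top b ((P ^ (j : ℕ)) (φ a)) = ψ ((Q ^ (j : ℕ)) a) := fun a j =>
    congrFun (e.apply_symm_apply _) j
  have hq : ∀ a q, top b (aeval P q (φ a)) = ψ (aeval Q q a) := fun a q =>
    eval_agree P b Q hm hdeg hmP hmQ ψ _ _ (h a) q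
  refine ⟨φ, LinearMap.ext fun a => (pair_bijective P b hb).1 (funext fun j => ?_), LinearMap.ext fun a => ?_⟩
  · show top b ((P ^ (j : ℕ)) (φ (Q a))) = top b ((P ^ (j : ℕ)) (P (φ a)))
    rw [h, ← Module.End.mul_apply, ← Module.End.mul_apply, ← pow_succ, ← pow_succ]
    simpa using (hq a (X ^ ((j : ℕ) + 1))).symm
  · simpa using hq a 1

include hb in
/-- **Bidual.** Linear maps on intertwiners which commute with `P` are evaluations. -/
theorem exists_eval [Module.Free R S] [Module.Finite R S] (hm : m.Monic) (hdeg : m.natDegree = n) (hmP : aeval P m = 0)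
    (hmQ : aeval Q m = 0) {W : Submodule R (S →ₗ[R] T)} (hW : ∀ φ : S →ₗ[R] T, φ ∈ W ↔ φ ∘ₗ Q = P ∘ₗ φ)
    (G : W →ₗ[R] T) (hG : ∀ φ ψ : W, (ψ : S →ₗ[R] T) = P ∘ₗ (φ : S →ₗ[R] T) → G ψ = P (G φ)) :
    ∃ a : S, ∀ φ : W, G φ = (φ : S →ₗ[R] T) a := by
  choose lift hlift hlift' using exists_intertwiner P b hb Q hm hdeg hmP hmQ
  let L : Module.Dual R S →ₗ[R] W :=
    { toFun := fun u => ⟨lift u, (hW _).2 (hlift u)⟩
      map_add' := fun u v => Subtype.ext (intertwiner_ext P b hb Q _ _ (hlift _) (by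
          show (lift u + lift v) ∘ₗ Q = P ∘ₗ (lift u + lift v)
          rw [LinearMap.add_comp, LinearMap.comp_add, hlift, hlift]) (by
          show top b ∘ₗ lift (u + v) = top b ∘ₗ (lift u + lift v)
          rw [hlift', LinearMap.comp_add, hlift', hlift']))
      map_smul' := fun r u => Subtype.ext (intertwiner_ext P b hb Q _ _ (hlift _) (by
          show (r • lift u) ∘ₗ Q = P ∘ₗ (r • lift u)
          rw [LinearMap.smul_comp, LinearMap.comp_smul, hlift]) (by
          show top b ∘ₗ lift (r • u) = top b ∘ₗ (r • lift u)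
          rw [hlift', LinearMap.comp_smul, hlift'])) }
  refine ⟨(Module.evalEquiv R S).symm (top b ∘ₗ G ∘ₗ L), fun φ => (pair_bijective P b hb).1 (funext fun j => ?_)⟩
  have hφ := (hW _).1 φ.2
  have hc : ∀ i : ℕ, ((P ^ i) ∘ₗ (φ : S →ₗ[R] T)) ∘ₗ Q = P ∘ₗ ((P ^ i) ∘ₗ (φ : S →ₗ[R] T)) := fun i => by
    rw [LinearMap.comp_assoc, hφ, ← LinearMap.comp_assoc, ← LinearMap.comp_assoc]
    exact congrArg (· ∘ₗ (φ : S →ₗ[R] T)) (Commute.pow_self P i).eq
  have hGc : ∀ i : ℕ, G ⟨_, (hW _).2 (hc i)⟩ = (P ^ i) (G φ) := by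
    intro i
    induction i with
    | zero => rfl
    | succ i ih =>
      rw [show (P ^ (i + 1)) (G φ) = P ((P ^ i) (G φ)) by rw [pow_succ', Module.End.mul_apply], ← ih]
      refine hG _ _ ?_
      show (P ^ (i + 1)) ∘ₗ (φ : S →ₗ[R] T) = P ∘ₗ ((P ^ i) ∘ₗ (φ : S →ₗ[R] T))
      rw [pow_succ']
      rfl
  have hL : (L (top b ∘ₗ ((P ^ (j : ℕ)) ∘ₗ (φ : S →ₗ[R] T)))) = ⟨_, (hW _).2 (hc j)⟩ :=
    Subtype.ext (intertwiner_ext P b hb Q _ _ (hlift _) (hc _) (hlift' _))
  show top b ((P ^ (j : ℕ)) (G φ)) = top b ((P ^ (j : ℕ)) ((φ : S →ₗ[R] T) _))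
  have := Module.apply_evalEquiv_symm_apply R S (top b ∘ₗ ((P ^ (j : ℕ)) ∘ₗ (φ : S →ₗ[R] T))) (top b ∘ₗ G ∘ₗ L)
  simp only [LinearMap.comp_apply] at this
  rw [this, hL, hGc]

end Dual

end Groth.Agent.LinAlg.Monogenic
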